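import Cfsg.Agent.Lib.CosetEnum.Trans.Defs

/-! Generated certificate. -/

set_option autoImplicit false
set_option maxRecDepth 100000

namespace Cfsg.Lib.CosetEnum.Fi23Out

/-- The points of the generators. -/
def pts : List Nat :=
  [11589, 8004, 8003, 8000, 8001, 8002, 8005, 8006, 7999, 8007]

/-- Commuting generators. -/
def fg : List Nat :=
  [0, 2, 4, 6, 9]

/-- Words moving the first transposition to commuting ones. -/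
def aux : List (List Nat) :=
  [[1, 0, 2, 3, 4, 5, 6, 7, 8, 3, 2, 4, 3, 5, 4, 6, 5, 8, 3, 2, 1, 4, 3, 2, 8, 3, 4, 5, 6, 7],
    [1, 2, 3, 4, 8, 3, 2, 1, 9, 8],
    [1, 0, 2, 1, 3, 4, 8, 3, 9, 8],
    [1, 2, 3, 4, 8, 3, 2, 1, 9, 8, 3, 2, 4, 3],
    [1, 2, 3, 4, 5, 6, 8, 3, 2, 1, 4, 5, 9, 8],
    [1, 0, 2, 1, 3, 4, 5, 6, 8, 3, 4, 5, 9, 8],
    [1, 2, 3, 4, 5, 6, 8, 3, 2, 1, 4, 3, 2, 5, 8, 3, 9, 8],
    [1, 0, 2, 1, 3, 4, 5, 6, 8, 3, 4, 5, 9, 8, 3, 2, 4, 3],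
    [1, 2, 3, 4, 5, 6, 8, 3, 2, 1, 4, 5, 9, 8, 3, 2, 4, 3],
    [1, 2, 3, 4, 5, 6, 8, 3, 2, 1, 4, 3, 5, 4, 8, 3, 9, 8],
    [1, 2, 3, 4, 5, 6, 8, 3, 2, 1, 4, 3, 2, 5, 4, 3, 9, 8],
    [1, 2, 3, 4, 5, 6, 8, 3, 2, 1, 4, 3, 2, 5, 4, 3, 9, 8, 3, 2, 4, 3],
    [1, 2, 3, 4, 5, 6, 8, 3, 2, 1, 4, 3, 5, 4, 8, 3, 9, 8, 3, 2, 4, 3],
    [1, 2, 3, 4, 5, 6, 8, 3, 2, 1, 4, 3, 2, 5, 8, 3, 9, 8, 3, 2, 4, 3],
    [1, 2, 3, 4, 5, 6, 8, 3, 2, 1, 4, 3, 2, 5, 8, 3, 9, 8, 3, 2, 1, 0, 4, 3, 2, 1],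
    [1, 2, 3, 4, 5, 6, 8, 3, 2, 1, 4, 3, 2, 5, 4, 3, 9, 8, 3, 2, 1, 0, 4, 3, 2, 1],
    [1, 2, 3, 4, 5, 6, 7, 8, 3, 2, 1, 4, 5, 6, 9, 8, 3, 2, 4, 3, 5, 4, 8, 3, 2, 9, 8, 3, 4, 5, 6, 7],
    [1, 2, 3, 4, 5, 6, 8, 3, 2, 1, 4, 3, 2, 5, 4, 3, 9, 8, 3, 2, 1, 0, 4, 3, 2, 1, 8, 3, 2, 9, 8, 3]]

/-- Candidates for the image of a generator. -/
def cand0 : List Nat :=
  [154, 196, 217, 279, 703, 901, 990, 1138, 2080, 2520, 2819, 2821, 3158, 3318, 3738, 3843, 5314, 5463, 6147, 6526, 6571, 6573, 6787, 6789, 7834, 8004, 8270, 9592, 17976, 17982, 18080, 18493]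

/-- Candidates for the image of a generator. -/
def cand1 : List Nat :=
  [1881, 2526, 2528, 3322, 5265, 6524, 6529, 8002]

/-- Candidates for the image of a generator. -/
def cand2 : List Nat :=
  [1, 716, 1021, 8006]

/-- Candidates for the image of a generator. -/
def cand3 : List Nat :=
  [6537, 7999]

/-- Candidates for the image of a generator. -/
def cand4 : List Nat :=
  [8000]

/-- The chain of candidates. -/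
def chain : List (Nat × List Nat) :=
  [(1, cand0), (5, cand1), (7, cand2), (8, cand3), (3, cand4)]

/-- Words moving the first transposition to the last candidates of the second branch. -/
def leafWords : List (List Nat) :=
  [[1, 0, 2, 3, 4, 5, 6, 7, 8, 3, 2, 4, 3, 5, 4, 6, 5, 8, 3, 2, 1, 4, 3, 2, 8, 3, 4, 5, 6, 7], [1, 0, 2, 3, 4, 5, 6, 7, 8, 3, 2, 4, 3, 5, 4, 6, 5, 8, 3, 2, 1, 4, 3, 2, 8, 3, 4, 5, 6], [1, 0, 2, 1, 3, 2, 4, 3, 5, 4, 6, 5, 7, 6], [1, 0, 2, 1, 3, 2, 8, 3, 9, 8]]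

/-- The last candidates of the second branch. -/
def leafPts : List Nat :=
  [0, 1, 8006, 8007]

end Cfsg.Lib.CosetEnum.Fi23Out
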