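import Cfsg.Agent.Lib.CosetEnum.Fi23Out.Entries
import Cfsg.Agent.Lib.CosetEnum.Fi23Out.Data
import Cfsg.Agent.Lib.CosetEnum.Fi23Fi22.Data

/-! Kernel checks. -/

set_option autoImplicit false
set_option maxRecDepth 100000
set_option Elab.async false

namespace Cfsg.Lib.CosetEnum.Fi23Out

open Fi23Fi22 (tabP)

theorem entries6_ok : entries6.all (entryOK tabP 10 31671 (frameWords fg aux) [pts.getD 1 0, pts.getD 5 0, pts.getD 7 0, pts.getD 8 0, pts.getD 3 0]) = true := by decide +kernel

theorem entries7_ok : entries7.all (entryOK tabP 10 31671 (frameWords fg aux) [pts.getD 1 0, pts.getD 5 0, pts.getD 7 0, pts.getD 8 0, pts.getD 3 0]) = true := by decide +kernel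

end Cfsg.Lib.CosetEnum.Fi23Out
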