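import Cfsg.Agent.Lib.CosetEnum.Fi23Out.Data
import Cfsg.Agent.Lib.CosetEnum.Fi23Fi22.Data

/-! Kernel checks. -/

set_option autoImplicit false
set_option maxRecDepth 100000
set_option Elab.async false

namespace Cfsg.Lib.CosetEnum.Fi23Out

open Fi23Fi22 (tabP)

theorem leaf5_0 : scanOK tabP 10 (roleConds tabP 10 pts [(0, 0), (1, 1), (2, 2), (3, 3), (8, 4), (9, 5)] 5) (elemN leafPts) 8000 0 = true := by decide +kernel

theorem leaf5_1 : scanOK tabP 10 (roleConds tabP 10 pts [(0, 0), (1, 1), (2, 2), (3, 3), (8, 4), (9, 5)] 5) (elemN leafPts) 8000 8000 = true := by decide +kernel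

theorem leaf5_2 : scanOK tabP 10 (roleConds tabP 10 pts [(0, 0), (1, 1), (2, 2), (3, 3), (8, 4), (9, 5)] 5) (elemN leafPts) 8000 16000 = true := by decide +kernel

theorem leaf5_3 : scanOK tabP 10 (roleConds tabP 10 pts [(0, 0), (1, 1), (2, 2), (3, 3), (8, 4), (9, 5)] 5) (elemN leafPts) 7671 24000 = true := by decide +kernel

theorem leaf6_0 : scanOK tabP 10 (roleConds tabP 10 pts [(0, 0), (1, 1), (2, 2), (3, 3), (8, 4), (9, 5)] 6) (elemN leafPts) 8000 0 = true := by decide +kernel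

theorem leaf6_1 : scanOK tabP 10 (roleConds tabP 10 pts [(0, 0), (1, 1), (2, 2), (3, 3), (8, 4), (9, 5)] 6) (elemN leafPts) 8000 8000 = true := by decide +kernel

theorem leaf6_2 : scanOK tabP 10 (roleConds tabP 10 pts [(0, 0), (1, 1), (2, 2), (3, 3), (8, 4), (9, 5)] 6) (elemN leafPts) 8000 16000 = true := by decide +kernel

theorem leaf6_3 : scanOK tabP 10 (roleConds tabP 10 pts [(0, 0), (1, 1), (2, 2), (3, 3), (8, 4), (9, 5)] 6) (elemN leafPts) 7671 24000 = true := by decide +kernel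

theorem leaf7_0 : scanOK tabP 10 (roleConds tabP 10 pts [(0, 0), (1, 1), (2, 2), (3, 3), (8, 4), (9, 5)] 7) (elemN leafPts) 8000 0 = true := by decide +kernel

theorem leaf7_1 : scanOK tabP 10 (roleConds tabP 10 pts [(0, 0), (1, 1), (2, 2), (3, 3), (8, 4), (9, 5)] 7) (elemN leafPts) 8000 8000 = true := by decide +kernel

theorem leaf7_2 : scanOK tabP 10 (roleConds tabP 10 pts [(0, 0), (1, 1), (2, 2), (3, 3), (8, 4), (9, 5)] 7) (elemN leafPts) 8000 16000 = true := by decide +kernel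

theorem leaf7_3 : scanOK tabP 10 (roleConds tabP 10 pts [(0, 0), (1, 1), (2, 2), (3, 3), (8, 4), (9, 5)] 7) (elemN leafPts) 7671 24000 = true := by decide +kernel

end Cfsg.Lib.CosetEnum.Fi23Out
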