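import Cfsg.Agent.Lib.CosetEnum.Fi23Out.Nodes
import Cfsg.Agent.Lib.CosetEnum.Fi23Fi22.Data

/-! Kernel checks. -/

set_option autoImplicit false
set_option maxRecDepth 100000
set_option Elab.async false

namespace Cfsg.Lib.CosetEnum.Fi23Out

open Fi23Fi22 (tabP)

theorem orbc6 : orbitOK tabP repN1_1.O repN1_1.Pos 10 31671 28160 repN1_1.U 3520 21120 = true := by decide +kernel

theorem orbc7 : orbitOK tabP repN1_1.O repN1_1.Pos 10 31671 28160 repN1_1.U 3520 24640 = true := by decide +kernel

end Cfsg.Lib.CosetEnum.Fi23Out
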