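import Cfsg.Agent.Lib.CosetEnum.Fi23Out.Nodes
import Cfsg.Agent.Lib.CosetEnum.Fi23Out.Data
import Cfsg.Agent.Lib.CosetEnum.Fi23Fi22.Data

/-! Kernel checks. -/

set_option autoImplicit false
set_option maxRecDepth 100000
set_option Elab.async false

namespace Cfsg.Lib.CosetEnum.Fi23Out

open Fi23Fi22 (tabP)

theorem orbN2_2_ok : orbitOK tabP repN2_2.O repN2_2.Pos 10 31671 repN2_2.c repN2_2.U repN2_2.c 0 = true := by decide +kernel

theorem orbN3_3_ok : orbitOK tabP repN3_3.O repN3_3.Pos 10 31671 repN3_3.c repN3_3.U repN3_3.c 0 = true := by decide +kernel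

theorem orbN4_8_ok : orbitOK tabP repN4_8.O repN4_8.Pos 10 31671 repN4_8.c repN4_8.U repN4_8.c 0 = true := by decide +kernel

theorem orbN4_4_ok : orbitOK tabP repN4_4.O repN4_4.Pos 10 31671 repN4_4.c repN4_4.U repN4_4.c 0 = true := by decide +kernel

theorem orbN5_9_ok : orbitOK tabP repN5_9.O repN5_9.Pos 10 31671 repN5_9.c repN5_9.U repN5_9.c 0 = true := by decide +kernel

theorem orbN6_4_ok : orbitOK tabP repN6_4.O repN6_4.Pos 10 31671 repN6_4.c repN6_4.U repN6_4.c 0 = true := by decide +kernel

theorem orbN7_5_ok : orbitOK tabP repN7_5.O repN7_5.Pos 10 31671 repN7_5.c repN7_5.U repN7_5.c 0 = true := by decide +kernel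

theorem orbN8_6_ok : orbitOK tabP repN8_6.O repN8_6.Pos 10 31671 repN8_6.c repN8_6.U repN8_6.c 0 = true := by decide +kernel

theorem orbN9_7_ok : orbitOK tabP repN9_7.O repN9_7.Pos 10 31671 repN9_7.c repN9_7.U repN9_7.c 0 = true := by decide +kernel

theorem orbM_5_ok : orbitOK tabP repM_5.O repM_5.Pos 10 31671 repM_5.c repM_5.U repM_5.c 0 = true := by decide +kernel

theorem repsN1_ok : repsOK tabP 10 pts prevN1 1 repsN1 = true := by decide +kernel

theorem repsN2_ok : repsOK tabP 10 pts prevN2 2 repsN2 = true := by decide +kernel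

theorem repsN3_ok : repsOK tabP 10 pts prevN3 3 repsN3 = true := by decide +kernel

theorem repsN4_ok : repsOK tabP 10 pts prevN4 8 repsN4 = true := by decide +kernel

theorem repsN5_ok : repsOK tabP 10 pts prevN5 9 repsN5 = true := by decide +kernel

theorem repsN6_ok : repsOK tabP 10 pts prevN6 4 repsN6 = true := by decide +kernel

theorem repsN7_ok : repsOK tabP 10 pts prevN7 5 repsN7 = true := by decide +kernel

theorem repsN8_ok : repsOK tabP 10 pts prevN8 6 repsN8 = true := by decide +kernel

theorem repsN9_ok : repsOK tabP 10 pts prevN9 7 repsN9 = true := by decide +kernel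

theorem repsM_ok : repsOK tabP 10 pts prevM 9 repsM = true := by decide +kernel

end Cfsg.Lib.CosetEnum.Fi23Out
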