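import Cfsg.Agent.Lib.CosetEnum.Fi23Out.Nodes
import Cfsg.Agent.Lib.CosetEnum.Fi23Out.Data
import Cfsg.Agent.Lib.CosetEnum.Fi23Fi22.Data

/-! Kernel checks. -/

set_option autoImplicit false
set_option maxRecDepth 100000
set_option Elab.async false

namespace Cfsg.Lib.CosetEnum.Fi23Out

open Fi23Fi22 (tabP)

theorem scanN1_0 : scanOK tabP 10 (roleConds tabP 10 pts prevN1 1) (roleMem pts prevN1 repsN1) 8000 0 = true := by decide +kernel

theorem scanN1_1 : scanOK tabP 10 (roleConds tabP 10 pts prevN1 1) (roleMem pts prevN1 repsN1) 8000 8000 = true := by decide +kernel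

theorem scanN1_2 : scanOK tabP 10 (roleConds tabP 10 pts prevN1 1) (roleMem pts prevN1 repsN1) 8000 16000 = true := by decide +kernel

theorem scanN1_3 : scanOK tabP 10 (roleConds tabP 10 pts prevN1 1) (roleMem pts prevN1 repsN1) 7671 24000 = true := by decide +kernel

theorem scanN5_0 : scanOK tabP 10 (roleConds tabP 10 pts prevN5 9) (roleMem pts prevN5 repsN5) 8000 0 = true := by decide +kernel

theorem scanN5_1 : scanOK tabP 10 (roleConds tabP 10 pts prevN5 9) (roleMem pts prevN5 repsN5) 8000 8000 = true := by decide +kernel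

theorem scanN5_2 : scanOK tabP 10 (roleConds tabP 10 pts prevN5 9) (roleMem pts prevN5 repsN5) 8000 16000 = true := by decide +kernel

theorem scanN5_3 : scanOK tabP 10 (roleConds tabP 10 pts prevN5 9) (roleMem pts prevN5 repsN5) 7671 24000 = true := by decide +kernel

theorem scanN9_0 : scanOK tabP 10 (roleConds tabP 10 pts prevN9 7) (roleMem pts prevN9 repsN9) 8000 0 = true := by decide +kernel

theorem scanN9_1 : scanOK tabP 10 (roleConds tabP 10 pts prevN9 7) (roleMem pts prevN9 repsN9) 8000 8000 = true := by decide +kernel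

theorem scanN9_2 : scanOK tabP 10 (roleConds tabP 10 pts prevN9 7) (roleMem pts prevN9 repsN9) 8000 16000 = true := by decide +kernel

theorem scanN9_3 : scanOK tabP 10 (roleConds tabP 10 pts prevN9 7) (roleMem pts prevN9 repsN9) 7671 24000 = true := by decide +kernel

end Cfsg.Lib.CosetEnum.Fi23Out
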