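import Cfsg.Agent.Lib.CosetEnum.Fi23Out.Nodes
import Cfsg.Agent.Lib.CosetEnum.Fi23Out.Data
import Cfsg.Agent.Lib.CosetEnum.Fi23Fi22.Data

/-! Kernel checks. -/

set_option autoImplicit false
set_option maxRecDepth 100000
set_option Elab.async false

namespace Cfsg.Lib.CosetEnum.Fi23Out

open Fi23Fi22 (tabP)

theorem scanN2_0 : scanOK tabP 10 (roleConds tabP 10 pts prevN2 2) (roleMem pts prevN2 repsN2) 8000 0 = true := by decide +kernel

theorem scanN2_1 : scanOK tabP 10 (roleConds tabP 10 pts prevN2 2) (roleMem pts prevN2 repsN2) 8000 8000 = true := by decide +kernel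

theorem scanN2_2 : scanOK tabP 10 (roleConds tabP 10 pts prevN2 2) (roleMem pts prevN2 repsN2) 8000 16000 = true := by decide +kernel

theorem scanN2_3 : scanOK tabP 10 (roleConds tabP 10 pts prevN2 2) (roleMem pts prevN2 repsN2) 7671 24000 = true := by decide +kernel

theorem scanN6_0 : scanOK tabP 10 (roleConds tabP 10 pts prevN6 4) (roleMem pts prevN6 repsN6) 8000 0 = true := by decide +kernel

theorem scanN6_1 : scanOK tabP 10 (roleConds tabP 10 pts prevN6 4) (roleMem pts prevN6 repsN6) 8000 8000 = true := by decide +kernel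

theorem scanN6_2 : scanOK tabP 10 (roleConds tabP 10 pts prevN6 4) (roleMem pts prevN6 repsN6) 8000 16000 = true := by decide +kernel

theorem scanN6_3 : scanOK tabP 10 (roleConds tabP 10 pts prevN6 4) (roleMem pts prevN6 repsN6) 7671 24000 = true := by decide +kernel

theorem scanM_0 : scanOK tabP 10 (roleConds tabP 10 pts prevM 9) (roleMem pts prevM repsM) 8000 0 = true := by decide +kernel

theorem scanM_1 : scanOK tabP 10 (roleConds tabP 10 pts prevM 9) (roleMem pts prevM repsM) 8000 8000 = true := by decide +kernel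

theorem scanM_2 : scanOK tabP 10 (roleConds tabP 10 pts prevM 9) (roleMem pts prevM repsM) 8000 16000 = true := by decide +kernel

theorem scanM_3 : scanOK tabP 10 (roleConds tabP 10 pts prevM 9) (roleMem pts prevM repsM) 7671 24000 = true := by decide +kernel

end Cfsg.Lib.CosetEnum.Fi23Out
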