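import Cfsg.Agent.Lib.CosetEnum.Fi23Out.OrbitPart0
import Cfsg.Agent.Lib.CosetEnum.Fi23Out.OrbitPart1
import Cfsg.Agent.Lib.CosetEnum.Fi23Out.OrbitPart2
import Cfsg.Agent.Lib.CosetEnum.Fi23Out.OrbitPart3
import Cfsg.Agent.Lib.CosetEnum.Fi23Out.OrbitPart4
import Cfsg.Agent.Lib.CosetEnum.Fi23Out.ScanPart0
import Cfsg.Agent.Lib.CosetEnum.Fi23Out.ScanPart1
import Cfsg.Agent.Lib.CosetEnum.Fi23Out.ScanPart2
import Cfsg.Agent.Lib.CosetEnum.Fi23Out.ScanPart3
import Cfsg.Agent.Lib.CosetEnum.Fi23Out.LeafPart
import Cfsg.Agent.Lib.CosetEnum.Fi23Out.ChainPart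
import Cfsg.Agent.Lib.CosetEnum.Fi23Out.EntryPart0
import Cfsg.Agent.Lib.CosetEnum.Fi23Out.EntryPart1
import Cfsg.Agent.Lib.CosetEnum.Fi23Out.EntryPart2
import Cfsg.Agent.Lib.CosetEnum.Fi23Out.EntryPart3
import Cfsg.Agent.Lib.CosetEnum.Fi23Out.EntryPart4
import Cfsg.Agent.Lib.CosetEnum.Fi23Out.EntryPart5
import Cfsg.Agent.Lib.CosetEnum.Fi23Out.EntryPart6
import Cfsg.Agent.Lib.CosetEnum.Fi23Out.EntryPart7

/-! Kernel checks. -/

set_option autoImplicit false
set_option maxRecDepth 100000
set_option Elab.async false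

namespace Cfsg.Lib.CosetEnum.Fi23Out

open Fi23Fi22 (tabP)

/-- The points used for the codes. -/
def codePts : List Nat :=
  [pts.getD 1 0, pts.getD 5 0, pts.getD 7 0, pts.getD 8 0, pts.getD 3 0]

/-- All products of commuting transpositions. -/
def entries : List Entry :=
  entries0 ++ entries1 ++ entries2 ++ entries3 ++ entries4 ++ entries5 ++ entries6 ++ entries7 ++ entries8 ++ entries9 ++ entries10 ++ entries11 ++ entries12 ++ entries13 ++ entries14 ++ entries15

theorem entries_inc : incB (entries.map Entry.code) = true := by decide +kernel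

theorem entries_len : entries.length = (chain.map fun e => e.2.length).prod := by decide +kernel

theorem codePts_lt : codePts.all (fun p => Nat.blt p 31671) = true := by decide +kernel

theorem frame_ok : frameOK tabP 10 pts fg aux = true := by decide +kernel

theorem entries_ok : entries.all (entryOK tabP 10 31671 (frameWords fg aux) codePts) = true := by
  simp only [entries, codePts, List.all_append, entries0_ok, entries1_ok, entries2_ok, entries3_ok, entries4_ok, entries5_ok, entries6_ok, entries7_ok, entries8_ok, entries9_ok, entries10_ok, entries11_ok, entries12_ok, entries13_ok, entries14_ok, entries15_ok, Bool.and_self]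

theorem orbN1_1_ok : orbitOK tabP repN1_1.O repN1_1.Pos 10 31671 repN1_1.c repN1_1.U repN1_1.c 0 = true :=
  (orbitOK_append (a := 3520) (b := 24640) orbc0 (orbitOK_append (a := 3520) (b := 21120) orbc1 (orbitOK_append (a := 3520) (b := 17600) orbc2 (orbitOK_append (a := 3520) (b := 14080) orbc3 (orbitOK_append (a := 3520) (b := 10560) orbc4 (orbitOK_append (a := 3520) (b := 7040) orbc5 (orbitOK_append (a := 3520) (b := 3520) orbc6 orbc7)))))))

theorem scanN1_ok : scanOK tabP 10 (roleConds tabP 10 pts prevN1 1) (roleMem pts prevN1 repsN1) 31671 0 = true :=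
  (scanOK_append (a := 8000) (b := 23671) scanN1_0 (scanOK_append (a := 8000) (b := 15671) scanN1_1 (scanOK_append (a := 8000) (b := 7671) scanN1_2 scanN1_3)))

theorem scanN2_ok : scanOK tabP 10 (roleConds tabP 10 pts prevN2 2) (roleMem pts prevN2 repsN2) 31671 0 = true :=
  (scanOK_append (a := 8000) (b := 23671) scanN2_0 (scanOK_append (a := 8000) (b := 15671) scanN2_1 (scanOK_append (a := 8000) (b := 7671) scanN2_2 scanN2_3)))

theorem scanN3_ok : scanOK tabP 10 (roleConds tabP 10 pts prevN3 3) (roleMem pts prevN3 repsN3) 31671 0 = true :=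
  (scanOK_append (a := 8000) (b := 23671) scanN3_0 (scanOK_append (a := 8000) (b := 15671) scanN3_1 (scanOK_append (a := 8000) (b := 7671) scanN3_2 scanN3_3)))

theorem scanN4_ok : scanOK tabP 10 (roleConds tabP 10 pts prevN4 8) (roleMem pts prevN4 repsN4) 31671 0 = true :=
  (scanOK_append (a := 8000) (b := 23671) scanN4_0 (scanOK_append (a := 8000) (b := 15671) scanN4_1 (scanOK_append (a := 8000) (b := 7671) scanN4_2 scanN4_3)))

theorem scanN5_ok : scanOK tabP 10 (roleConds tabP 10 pts prevN5 9) (roleMem pts prevN5 repsN5) 31671 0 = true :=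
  (scanOK_append (a := 8000) (b := 23671) scanN5_0 (scanOK_append (a := 8000) (b := 15671) scanN5_1 (scanOK_append (a := 8000) (b := 7671) scanN5_2 scanN5_3)))

theorem scanN6_ok : scanOK tabP 10 (roleConds tabP 10 pts prevN6 4) (roleMem pts prevN6 repsN6) 31671 0 = true :=
  (scanOK_append (a := 8000) (b := 23671) scanN6_0 (scanOK_append (a := 8000) (b := 15671) scanN6_1 (scanOK_append (a := 8000) (b := 7671) scanN6_2 scanN6_3)))

theorem scanN7_ok : scanOK tabP 10 (roleConds tabP 10 pts prevN7 5) (roleMem pts prevN7 repsN7) 31671 0 = true :=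
  (scanOK_append (a := 8000) (b := 23671) scanN7_0 (scanOK_append (a := 8000) (b := 15671) scanN7_1 (scanOK_append (a := 8000) (b := 7671) scanN7_2 scanN7_3)))

theorem scanN8_ok : scanOK tabP 10 (roleConds tabP 10 pts prevN8 6) (roleMem pts prevN8 repsN8) 31671 0 = true :=
  (scanOK_append (a := 8000) (b := 23671) scanN8_0 (scanOK_append (a := 8000) (b := 15671) scanN8_1 (scanOK_append (a := 8000) (b := 7671) scanN8_2 scanN8_3)))

theorem scanN9_ok : scanOK tabP 10 (roleConds tabP 10 pts prevN9 7) (roleMem pts prevN9 repsN9) 31671 0 = true :=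
  (scanOK_append (a := 8000) (b := 23671) scanN9_0 (scanOK_append (a := 8000) (b := 15671) scanN9_1 (scanOK_append (a := 8000) (b := 7671) scanN9_2 scanN9_3)))

theorem scanM_ok : scanOK tabP 10 (roleConds tabP 10 pts prevM 9) (roleMem pts prevM repsM) 31671 0 = true :=
  (scanOK_append (a := 8000) (b := 23671) scanM_0 (scanOK_append (a := 8000) (b := 15671) scanM_1 (scanOK_append (a := 8000) (b := 7671) scanM_2 scanM_3)))

theorem leaf5_ok : scanOK tabP 10 (roleConds tabP 10 pts [(0, 0), (1, 1), (2, 2), (3, 3), (8, 4), (9, 5)] 5) (elemN leafPts) 31671 0 = true :=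
  (scanOK_append (a := 8000) (b := 23671) leaf5_0 (scanOK_append (a := 8000) (b := 15671) leaf5_1 (scanOK_append (a := 8000) (b := 7671) leaf5_2 leaf5_3)))

theorem leaf6_ok : scanOK tabP 10 (roleConds tabP 10 pts [(0, 0), (1, 1), (2, 2), (3, 3), (8, 4), (9, 5)] 6) (elemN leafPts) 31671 0 = true :=
  (scanOK_append (a := 8000) (b := 23671) leaf6_0 (scanOK_append (a := 8000) (b := 15671) leaf6_1 (scanOK_append (a := 8000) (b := 7671) leaf6_2 leaf6_3)))

theorem leaf7_ok : scanOK tabP 10 (roleConds tabP 10 pts [(0, 0), (1, 1), (2, 2), (3, 3), (8, 4), (9, 5)] 7) (elemN leafPts) 31671 0 = true :=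
  (scanOK_append (a := 8000) (b := 23671) leaf7_0 (scanOK_append (a := 8000) (b := 15671) leaf7_1 (scanOK_append (a := 8000) (b := 7671) leaf7_2 leaf7_3)))

theorem chain0_ok : scanOK tabP 10 (centConds tabP 10 pts (frameWords fg aux) 1) (elemN cand0) 31671 0 = true :=
  (scanOK_append (a := 8000) (b := 23671) chain0_0 (scanOK_append (a := 8000) (b := 15671) chain0_1 (scanOK_append (a := 8000) (b := 7671) chain0_2 chain0_3)))

theorem chain1_ok : scanOK tabP 10 (centConds tabP 10 pts ([1] :: frameWords fg aux) 5) (elemN cand1) 31671 0 = true :=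
  (scanOK_append (a := 8000) (b := 23671) chain1_0 (scanOK_append (a := 8000) (b := 15671) chain1_1 (scanOK_append (a := 8000) (b := 7671) chain1_2 chain1_3)))

theorem chain2_ok : scanOK tabP 10 (centConds tabP 10 pts ([5] :: [1] :: frameWords fg aux) 7) (elemN cand2) 31671 0 = true :=
  (scanOK_append (a := 8000) (b := 23671) chain2_0 (scanOK_append (a := 8000) (b := 15671) chain2_1 (scanOK_append (a := 8000) (b := 7671) chain2_2 chain2_3)))

theorem chain3_ok : scanOK tabP 10 (centConds tabP 10 pts ([7] :: [5] :: [1] :: frameWords fg aux) 8) (elemN cand3) 31671 0 = true :=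
  (scanOK_append (a := 8000) (b := 23671) chain3_0 (scanOK_append (a := 8000) (b := 15671) chain3_1 (scanOK_append (a := 8000) (b := 7671) chain3_2 chain3_3)))

theorem chain4_ok : scanOK tabP 10 (centConds tabP 10 pts ([8] :: [7] :: [5] :: [1] :: frameWords fg aux) 3) (elemN cand4) 31671 0 = true :=
  (scanOK_append (a := 8000) (b := 23671) chain4_0 (scanOK_append (a := 8000) (b := 15671) chain4_1 (scanOK_append (a := 8000) (b := 7671) chain4_2 chain4_3)))

end Cfsg.Lib.CosetEnum.Fi23Out
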