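import Cfsg.Agent.Lib.CosetEnum.Fi23Out.Data
import Cfsg.Agent.Lib.CosetEnum.Fi23Fi22.Data

/-! Kernel checks. -/

set_option autoImplicit false
set_option maxRecDepth 100000
set_option Elab.async false

namespace Cfsg.Lib.CosetEnum.Fi23Out

open Fi23Fi22 (tabP)

theorem chain0_0 : scanOK tabP 10 (centConds tabP 10 pts (frameWords fg aux) 1) (elemN cand0) 8000 0 = true := by decide +kernel

theorem chain0_1 : scanOK tabP 10 (centConds tabP 10 pts (frameWords fg aux) 1) (elemN cand0) 8000 8000 = true := by decide +kernel

theorem chain0_2 : scanOK tabP 10 (centConds tabP 10 pts (frameWords fg aux) 1) (elemN cand0) 8000 16000 = true := by decide +kernel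

theorem chain0_3 : scanOK tabP 10 (centConds tabP 10 pts (frameWords fg aux) 1) (elemN cand0) 7671 24000 = true := by decide +kernel

theorem chain1_0 : scanOK tabP 10 (centConds tabP 10 pts ([1] :: frameWords fg aux) 5) (elemN cand1) 8000 0 = true := by decide +kernel

theorem chain1_1 : scanOK tabP 10 (centConds tabP 10 pts ([1] :: frameWords fg aux) 5) (elemN cand1) 8000 8000 = true := by decide +kernel

theorem chain1_2 : scanOK tabP 10 (centConds tabP 10 pts ([1] :: frameWords fg aux) 5) (elemN cand1) 8000 16000 = true := by decide +kernel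

theorem chain1_3 : scanOK tabP 10 (centConds tabP 10 pts ([1] :: frameWords fg aux) 5) (elemN cand1) 7671 24000 = true := by decide +kernel

theorem chain2_0 : scanOK tabP 10 (centConds tabP 10 pts ([5] :: [1] :: frameWords fg aux) 7) (elemN cand2) 8000 0 = true := by decide +kernel

theorem chain2_1 : scanOK tabP 10 (centConds tabP 10 pts ([5] :: [1] :: frameWords fg aux) 7) (elemN cand2) 8000 8000 = true := by decide +kernel

theorem chain2_2 : scanOK tabP 10 (centConds tabP 10 pts ([5] :: [1] :: frameWords fg aux) 7) (elemN cand2) 8000 16000 = true := by decide +kernel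

theorem chain2_3 : scanOK tabP 10 (centConds tabP 10 pts ([5] :: [1] :: frameWords fg aux) 7) (elemN cand2) 7671 24000 = true := by decide +kernel

theorem chain3_0 : scanOK tabP 10 (centConds tabP 10 pts ([7] :: [5] :: [1] :: frameWords fg aux) 8) (elemN cand3) 8000 0 = true := by decide +kernel

theorem chain3_1 : scanOK tabP 10 (centConds tabP 10 pts ([7] :: [5] :: [1] :: frameWords fg aux) 8) (elemN cand3) 8000 8000 = true := by decide +kernel

theorem chain3_2 : scanOK tabP 10 (centConds tabP 10 pts ([7] :: [5] :: [1] :: frameWords fg aux) 8) (elemN cand3) 8000 16000 = true := by decide +kernel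

theorem chain3_3 : scanOK tabP 10 (centConds tabP 10 pts ([7] :: [5] :: [1] :: frameWords fg aux) 8) (elemN cand3) 7671 24000 = true := by decide +kernel

theorem chain4_0 : scanOK tabP 10 (centConds tabP 10 pts ([8] :: [7] :: [5] :: [1] :: frameWords fg aux) 3) (elemN cand4) 8000 0 = true := by decide +kernel

theorem chain4_1 : scanOK tabP 10 (centConds tabP 10 pts ([8] :: [7] :: [5] :: [1] :: frameWords fg aux) 3) (elemN cand4) 8000 8000 = true := by decide +kernel

theorem chain4_2 : scanOK tabP 10 (centConds tabP 10 pts ([8] :: [7] :: [5] :: [1] :: frameWords fg aux) 3) (elemN cand4) 8000 16000 = true := by decide +kernel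

theorem chain4_3 : scanOK tabP 10 (centConds tabP 10 pts ([8] :: [7] :: [5] :: [1] :: frameWords fg aux) 3) (elemN cand4) 7671 24000 = true := by decide +kernel

end Cfsg.Lib.CosetEnum.Fi23Out
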